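import Groth.Prelude.Def_Magnet2
import Groth.Prelude.Def_AlgSt5
import Mathlib.AlgebraicGeometry.PullbackCarrier
import Mathlib.AlgebraicGeometry.Morphisms.OpenImmersion
import Mathlib.CategoryTheory.Limits.Types.Pullbacks

/-! Families of equivariant maps out of a monoid with zero are detected at the zero. -/

set_option autoImplicit false
set_option linter.style.haveILetI false
set_option backward.isDefEq.respectTransparency.types false
universe u

open CategoryTheory CategoryTheory.Limits MonoidalCategory CartesianMonoidalCategory MonObj AlgebraicGeometry Opposite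

namespace Groth.Agent.UnitsMag16

variable {S : Scheme.{u}}

theorem mem_range_fst {P X Y Z : Scheme.{u}} {p : P ⟶ X} {q : P ⟶ Y} {f : X ⟶ Z} {g : Y ⟶ Z}
    (h : IsPullback p q f g) (x : X) (hx : f x ∈ Set.range g) : x ∈ Set.range p := by
  have hx' : x ∈ Set.range (pullback.fst f g) := by
    rw [Scheme.Pullback.range_fst]; exact hx
  obtain ⟨y, hy⟩ := hx'
  refine ⟨h.isoPullback.inv y, ?_⟩
  rw [← hy, ← h.isoPullback_inv_fst]
  rfl

variable {G M X U : Over S} [MonObj M] [GrpObj G] (i : G ⟶ M) [IsMonHom i]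
  (aX : AlgGrp.Action G X) (aU : AlgGrp.Action G U) (j : U ⟶ X) [IsOpenImmersion j.left]
  (hj : Magnet.MonAct.IsEquivariant (Magnet.MonAct.ofAction aU) (Magnet.MonAct.ofAction aX) j)

include hj in
theorem stable (T : Over S) (φ : (Magnet.MonAct.eqvHom ((Magnet.MonAct.regular M).restrict i)
    (Magnet.MonAct.ofAction aX)).obj (op T)) :
    (snd G (M ⊗ T)).left ⁻¹ᵁ (φ.1.left ⁻¹ᵁ j.left.opensRange) ≤
      ((((Magnet.MonAct.regular M).restrict i).prod (Magnet.MonAct.trivial G T)).act).left ⁻¹ᵁ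
        (φ.1.left ⁻¹ᵁ j.left.opensRange) := by
  intro p hp
  show φ.1.left (((((Magnet.MonAct.regular M).restrict i).prod (Magnet.MonAct.trivial G T)).act).left p) ∈
    Set.range j.left
  have heq : ((((Magnet.MonAct.regular M).restrict i).prod (Magnet.MonAct.trivial G T)).act) ≫ φ.1 =
      (G ◁ φ.1) ≫ aX.act := φ.2
  have h1 := congrArg (fun f => f.left p) heq
  change φ.1.left (((((Magnet.MonAct.regular M).restrict i).prod (Magnet.MonAct.trivial G T)).act).left p) =
    aX.act.left ((G ◁ φ.1).left p) at h1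
  rw [h1]
  have hsq := ((AlgSt.isPullback_whiskerLeft (G := G) j).map (Over.forget S))
  have hy : (G ◁ φ.1).left p ∈ Set.range (G ◁ j).left := by
    refine mem_range_fst hsq _ ?_
    show (snd G X).left ((G ◁ φ.1).left p) ∈ Set.range j.left
    rw [← Scheme.Hom.comp_apply, ← Over.comp_left, whiskerLeft_snd, Over.comp_left, Scheme.Hom.comp_apply]
    exact hp
  obtain ⟨y, hy⟩ := hy
  rw [← hy]
  refine ⟨aU.act.left y, ?_⟩
  have h2 := congrArg (fun f => f.left y) hj
  exact h2

variable (o : 𝟙_ (Over S) ⟶ M)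
  (hM : ∀ (T : Over S) (K : Type u) [Field K] (eT : T.left ≅ Spec (CommRingCat.of K))
    (W : (M ⊗ T).left.Opens),
    (CartesianMonoidalCategory.snd G (M ⊗ T)).left ⁻¹ᵁ W ≤
        ((((Magnet.MonAct.regular M).restrict i).prod (Magnet.MonAct.trivial G T)).act).left ⁻¹ᵁ W →
    (CartesianMonoidalCategory.lift (toUnit T ≫ o) (𝟙 T)).left ⁻¹ᵁ W = ⊤ → W = ⊤)

include hM in
theorem exists_lift (T : Over S) (φ : (Magnet.MonAct.eqvHom ((Magnet.MonAct.regular M).restrict i)
    (Magnet.MonAct.ofAction aX)).obj (op T)) (u : T ⟶ U)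
    (hu : lift (toUnit T ≫ o) (𝟙 T) ≫ φ.1 = u ≫ j)
    (hj : Magnet.MonAct.IsEquivariant (Magnet.MonAct.ofAction aU) (Magnet.MonAct.ofAction aX) j) :
    ∃ ψ : (Magnet.MonAct.eqvHom ((Magnet.MonAct.regular M).restrict i)
      (Magnet.MonAct.ofAction aU)).obj (op T), ψ.1 ≫ j = φ.1 := by
  have hW : φ.1.left ⁻¹ᵁ j.left.opensRange = ⊤ := by
    refine eq_top_iff.2 fun p _ => ?_
    let t := (snd M T).left p
    let TK : Over S := Over.mk (T.left.fromSpecResidueField t ≫ T.hom)
    let f : TK ⟶ T := Over.homMk (T.left.fromSpecResidueField t) rfl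
    obtain ⟨q, hq⟩ : p ∈ Set.range (M ◁ f).left :=
      mem_range_fst ((AlgSt.isPullback_whiskerLeft (G := M) f).map (Over.forget S)) p
        (by
          show t ∈ Set.range (T.left.fromSpecResidueField t)
          rw [Scheme.range_fromSpecResidueField]
          exact rfl)
    let φK := (Magnet.MonAct.eqvHom ((Magnet.MonAct.regular M).restrict i) (Magnet.MonAct.ofAction aX)).map f.op φ
    have h := hM TK (T.left.residueField t) (Iso.refl _) (φK.1.left ⁻¹ᵁ j.left.opensRange)
      (stable i aX aU j hj TK φK) (by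
        refine eq_top_iff.2 fun r _ => ⟨u.left (f.left r), ?_⟩
        have h1 : (lift (toUnit TK ≫ o) (𝟙 TK) ≫ φK.1) = (f ≫ u) ≫ j := by
          show lift (toUnit TK ≫ o) (𝟙 TK) ≫ (M ◁ f) ≫ φ.1 = _
          rw [lift_whiskerLeft_assoc, Category.id_comp, Category.assoc, ← hu, comp_lift_assoc, Category.comp_id,
            comp_toUnit_assoc]
        exact (congrArg (fun g => g.left r) h1).symm)
    have hq' : q ∈ φK.1.left ⁻¹ᵁ j.left.opensRange := h ▸ trivial
    rw [← hq]
    exact hq'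
  have hr : Set.range φ.1.left ⊆ Set.range j.left := by
    rintro _ ⟨p, rfl⟩
    exact (hW ▸ trivial : p ∈ φ.1.left ⁻¹ᵁ j.left.opensRange)
  let ψ : M ⊗ T ⟶ U := Over.homMk (IsOpenImmersion.lift j.left φ.1.left hr) (by
    rw [← Over.w j, ← Category.assoc, IsOpenImmersion.lift_fac]
    exact Over.w φ.1)
  have hψ : ψ ≫ j = φ.1 := Over.OverMorphism.ext (IsOpenImmersion.lift_fac _ _ _)
  haveI : Mono j := (Over.forget _).mono_of_mono_map (show Mono j.left from inferInstance)
  refine ⟨⟨ψ, ?_⟩, hψ⟩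
  show _ ≫ ψ = (G ◁ ψ) ≫ aU.act
  have e2 : ((G ◁ ψ) ≫ aU.act) ≫ j = (G ◁ φ.1) ≫ aX.act := by
    rw [Category.assoc, show aU.act ≫ j = (G ◁ j) ≫ aX.act from hj, ← MonoidalCategory.whiskerLeft_comp_assoc, hψ]
  rw [← cancel_mono j, Category.assoc, hψ, e2]
  exact φ.2

include hM in
theorem isPullback_zero (hj : Magnet.MonAct.IsEquivariant (Magnet.MonAct.ofAction aU) (Magnet.MonAct.ofAction aX) j) :
    IsPullback
      (Magnet.MonAct.eqvHom.postcomp ((Magnet.MonAct.regular M).restrict i) j hj)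
      (Magnet.MonAct.eqvHom.evalAt ((Magnet.MonAct.regular M).restrict i) (Magnet.MonAct.ofAction aU) o)
      (Magnet.MonAct.eqvHom.evalAt ((Magnet.MonAct.regular M).restrict i) (Magnet.MonAct.ofAction aX) o)
      (yoneda.map j) := by
  haveI : Mono j := (Over.forget _).mono_of_mono_map (show Mono j.left from inferInstance)
  refine IsPullback.of_forall_isPullback_app fun T => ?_
  obtain ⟨T, rfl⟩ : ∃ U, op U = T := ⟨T.unop, rfl⟩
  refine (Limits.Types.isPullback_iff _ _ _ _).2 ⟨?_, ?_, ?_⟩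
  · ext ψ
    exact (Category.assoc _ _ _).symm
  · rintro ψ ψ' ⟨h₁, -⟩
    exact Subtype.ext ((cancel_mono j).1 (congrArg Subtype.val h₁))
  · intro φ v hv
    obtain ⟨ψ, hψ⟩ := exists_lift i aX aU j o hM T φ v hv hj
    refine ⟨ψ, Subtype.ext hψ, (cancel_mono j).1 ?_⟩
    show (lift (toUnit T ≫ o) (𝟙 T) ≫ ψ.1) ≫ j = v ≫ j
    rw [Category.assoc, hψ]
    exact hv

end Groth.Agent.UnitsMag16
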