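import Groth.Prelude.Def_Magnet2
import Groth.Agent.Lib.InvRing21.Regular
import Groth.Agent.Lib.AlgSpace.ValLift
import Mathlib.AlgebraicGeometry.Morphisms.SchemeTheoreticallyDominant
import Mathlib.AlgebraicGeometry.Pullbacks
import Mathlib.LinearAlgebra.TensorProduct.RightExactness
import Mathlib.RingTheory.Flat.Basic

/-! The magnet of a monoid with dense group of units in the affine case: a closed subscheme. -/

set_option autoImplicit false
set_option linter.style.haveILetI false
set_option backward.isDefEq.respectTransparency.types false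
universe u

open CategoryTheory CategoryTheory.Limits MonoidalCategory CartesianMonoidalCategory MonObj AlgebraicGeometry Opposite
open scoped TensorProduct

noncomputable section

namespace Groth.Agent.UnitsMag16

open Groth.Agent.InvRing21 (gamAlg uPt appAlg val ptMap_val val_ptMap ptMap_appAlg ptMap_comp)

attribute [local instance] gamAlg

variable {k : Type u} [Field k]

section Chart

variable (M : Over (Spec (CommRingCat.of k))) [IsAffine M.left] (C : Type u) [CommRing C] [Algebra k C]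

/-- The product of an affine scheme and an affine test scheme. -/
def prodPt : VecGrp.pt k (Γ(M.left, ⊤) ⊗[k] C) ⟶ M ⊗ VecGrp.pt k C :=
  lift (VecGrp.ptMap Algebra.TensorProduct.includeLeft ≫ uPt M) (VecGrp.ptMap Algebra.TensorProduct.includeRight)

theorem isPullback_prodPt :
    IsPullback (Spec.map (CommRingCat.ofHom (Algebra.TensorProduct.includeLeft : Γ(M.left, ⊤) →ₐ[k] Γ(M.left, ⊤) ⊗[k] C).toRingHom)
        ≫ M.left.isoSpec.inv)
      (Spec.map (CommRingCat.ofHom (Algebra.TensorProduct.includeRight : C →ₐ[k] Γ(M.left, ⊤) ⊗[k] C).toRingHom))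
      M.hom (Spec.map (CommRingCat.ofHom (algebraMap k C))) := by
  have h := (IsPullback.of_hasPullback (Spec.map (CommRingCat.ofHom (algebraMap k Γ(M.left, ⊤))))
    (Spec.map (CommRingCat.ofHom (algebraMap k C))))
  refine IsPullback.of_iso h (pullbackSpecIso k Γ(M.left, ⊤) C) M.left.isoSpec.symm (Iso.refl _) (Iso.refl _) ?_ ?_ ?_ ?_
  · rw [← Iso.inv_comp_eq, ← Category.assoc, pullbackSpecIso_inv_fst]
    rfl
  · rw [Iso.refl_hom, Category.comp_id, ← Iso.inv_comp_eq, pullbackSpecIso_inv_snd]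
    rfl
  · rw [Iso.refl_hom, Category.comp_id, Iso.symm_hom]
    exact (Over.w (uPt M)).symm
  · simp

instance isIso_prodPt : IsIso (prodPt M C) := by
  haveI : IsIso (prodPt M C).left := by
    have h := isPullback_prodPt M C
    have e : (prodPt M C).left = h.isoPullback.hom := by
      refine pullback.hom_ext ?_ ?_
      · refine Eq.trans ?_ h.isoPullback_hom_fst.symm
        exact congrArg CommaMorphism.left (lift_fst _ _ : prodPt M C ≫ fst M (VecGrp.pt k C) = _)
      · refine Eq.trans ?_ h.isoPullback_hom_snd.symm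
        exact congrArg CommaMorphism.left (lift_snd _ _ : prodPt M C ≫ snd M (VecGrp.pt k C) = _)
    rw [e]
    infer_instance
  haveI : IsIso ((Over.forget _).map (prodPt M C)) := ‹IsIso (prodPt M C).left›
  exact isIso_of_reflects_iso _ (Over.forget _)

variable {M C}

theorem prodPt_left {G : Over (Spec (CommRingCat.of k))} [IsAffine G.left] (i : G ⟶ M) :
    VecGrp.ptMap (Algebra.TensorProduct.map (appAlg i) (AlgHom.id k C)) ≫ prodPt M C =
      prodPt G C ≫ (i ▷ VecGrp.pt k C) := by
  refine CartesianMonoidalCategory.hom_ext _ _ ?_ ?_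
  · rw [Category.assoc, Category.assoc, whiskerRight_fst, prodPt, prodPt, lift_fst, lift_fst_assoc, ← Category.assoc,
      ptMap_comp, Category.assoc, ← ptMap_appAlg, ← Category.assoc, ptMap_comp]
    congr 2
  · rw [Category.assoc, Category.assoc, whiskerRight_snd, prodPt, prodPt, lift_snd, lift_snd, ptMap_comp]
    congr 1
    exact AlgHom.ext fun x => by simp

theorem prodPt_right {C' : Type u} [CommRing C'] [Algebra k C'] (χ : C →ₐ[k] C') :
    VecGrp.ptMap (Algebra.TensorProduct.map (AlgHom.id k Γ(M.left, ⊤)) χ) ≫ prodPt M C =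
      prodPt M C' ≫ (M ◁ VecGrp.ptMap χ) := by
  refine CartesianMonoidalCategory.hom_ext _ _ ?_ ?_
  · rw [Category.assoc, Category.assoc, whiskerLeft_fst, prodPt, prodPt, lift_fst, lift_fst, ← Category.assoc,
      ptMap_comp]
    congr 2
    exact AlgHom.ext fun x => by simp
  · rw [Category.assoc, Category.assoc, whiskerLeft_snd, prodPt, prodPt, lift_snd, lift_snd_assoc, ptMap_comp,
      ptMap_comp]
    congr 1

end Chart

variable {M G X : Over (Spec (CommRingCat.of k))} [MonObj M] [GrpObj G] [IsAffine M.left] [IsAffine G.left]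
  [IsAffine X.left] (i : G ⟶ M) [IsMonHom i] [IsOpenImmersion i.left]
  [IsSchemeTheoreticallyDominant i.left] (a : AlgGrp.Action G X)

omit [MonObj M] [GrpObj G] [IsMonHom i] in
include i in
theorem cancel_whiskerRight (T : Over (Spec (CommRingCat.of k))) {φ ψ : M ⊗ T ⟶ X}
    (h : (i ▷ T) ≫ φ = (i ▷ T) ≫ ψ) : φ = ψ := by
  haveI : Flat (fst M T).left := AffGrp19.flat_fst_left M T
  have hP := GITQuot.isPullback_whiskerRight i T
  haveI : IsSchemeTheoreticallyDominant (i ▷ T).left := IsSchemeTheoreticallyDominant.of_isPullback hP.flip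
  haveI : QuasiCompact (i ▷ T).left := MorphismProperty.of_isPullback hP.flip (inferInstance : QuasiCompact i.left)
  refine Over.OverMorphism.ext (ext_of_isAffine ?_)
  ext x
  apply (i ▷ T).left.app_injective ⊤
  have h' := congrArg (fun f => f.left.appTop) h
  simp only [Over.comp_left, Scheme.Hom.comp_appTop] at h'
  exact ConcreteCategory.congr_hom h' x

/-- The orbit map of a point. -/
def orbMap {T : Over (Spec (CommRingCat.of k))} (x : T ⟶ X) : G ⊗ T ⟶ X := (G ◁ x) ≫ a.act

abbrev Dpsh : (Over (Spec (CommRingCat.of k)))ᵒᵖ ⥤ Type u :=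
  Magnet.MonAct.eqvHom ((Magnet.MonAct.regular M).restrict i) (Magnet.MonAct.ofAction a)

omit [IsAffine M.left] [IsAffine G.left] [IsAffine X.left] [IsOpenImmersion i.left] [IsSchemeTheoreticallyDominant i.left] in
theorem restrict_eq_orbMap {T : Over (Spec (CommRingCat.of k))} (φ : (Dpsh i a).obj (op T)) :
    (i ▷ T) ≫ φ.1 = orbMap a (lift (toUnit T ≫ η[M]) (𝟙 T) ≫ φ.1) := by
  have h := (Magnet.MonAct.mem_eqvHom_iff φ.1).1 φ.2 (G ⊗ T) (fst G T) 1 (snd G T)
  rw [Magnet.MonAct.lift_restrict_act, Magnet.MonAct.lift_regular_act, _root_.mul_one] at h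
  have h1 : lift (fst G T ≫ i) (snd G T) = i ▷ T := by
    ext <;> simp
  rw [← h1, h, orbMap]
  have h2 : G ◁ (lift (toUnit T ≫ η[M]) (𝟙 T) ≫ φ.1) = lift (fst G T) (lift 1 (snd G T) ≫ φ.1) := by
    refine CartesianMonoidalCategory.hom_ext _ _ (by simp) ?_
    rw [whiskerLeft_snd, lift_snd, ← Category.assoc, comp_lift, Category.comp_id, ← Category.assoc,
      toUnit_unique (snd G T ≫ toUnit T) (toUnit _)]
    rfl
  rw [h2]
  rfl

theorem isEquivariant_of_extends {T : Over (Spec (CommRingCat.of k))} (x : T ⟶ X) {φ : M ⊗ T ⟶ X}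
    (hφ : (i ▷ T) ≫ φ = orbMap a x) :
    Magnet.MonAct.IsEquivariant (((Magnet.MonAct.regular M).restrict i).prod (Magnet.MonAct.trivial G T))
      (Magnet.MonAct.ofAction a) φ := by
  haveI : QuasiCompact i.left := inferInstance
  haveI : Flat (fst M T).left := AffGrp19.flat_fst_left M T
  have hP := GITQuot.isPullback_whiskerRight i T
  haveI : IsSchemeTheoreticallyDominant (i ▷ T).left := IsSchemeTheoreticallyDominant.of_isPullback hP.flip
  haveI : QuasiCompact (i ▷ T).left := MorphismProperty.of_isPullback hP.flip (inferInstance : QuasiCompact i.left)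
  have hQ := GITQuot.isPullback_whiskerLeft (i ▷ T) G
  haveI := Blanchard19.flat_snd_left G (M ⊗ T)
  haveI : IsSchemeTheoreticallyDominant (G ◁ (i ▷ T)).left := IsSchemeTheoreticallyDominant.of_isPullback hQ.flip
  haveI : QuasiCompact (G ◁ (i ▷ T)).left :=
    MorphismProperty.of_isPullback hQ.flip (inferInstance : QuasiCompact (i ▷ T).left)
  have key : (G ◁ (i ▷ T)) ≫ (((Magnet.MonAct.regular M).restrict i).prod (Magnet.MonAct.trivial G T)).act ≫ φ =
      (G ◁ (i ▷ T)) ≫ (G ◁ φ) ≫ a.act := by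
    rw [← MonoidalCategory.whiskerLeft_comp_assoc, hφ]
    refine (cancel_epi (α_ G G T).hom).1 ?_
    have e : (α_ G G T).hom = lift (fst _ _ ≫ fst G G) (lift (fst _ _ ≫ snd G G) (snd _ _)) := by
      ext <;> simp
    rw [e, lift_whiskerLeft_assoc, lift_whiskerLeft_assoc, lift_whiskerRight, Category.assoc,
      Magnet.MonAct.lift_prod_act_assoc, Magnet.MonAct.lift_trivial_act, Magnet.MonAct.lift_restrict_act,
      Magnet.MonAct.lift_regular_act, ← Category.assoc (fst (G ⊗ G) T) (snd G G) i, ← MonObj.mul_comp]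
    have e2 : ∀ (g : (G ⊗ G) ⊗ T ⟶ G) (t : (G ⊗ G) ⊗ T ⟶ T), lift (g ≫ i) t = lift g t ≫ (i ▷ T) := fun g t => by
      rw [lift_whiskerRight]
    rw [e2, Category.assoc, hφ, orbMap, lift_whiskerLeft_assoc, lift_whiskerLeft_assoc]
    exact (Magnet.MonAct.ofAction a).lift_mul_act _ _ _
  unfold Magnet.MonAct.IsEquivariant
  refine Over.OverMorphism.ext (ext_of_isAffine ?_)
  ext z
  apply (G ◁ (i ▷ T)).left.app_injective ⊤
  have h' := congrArg (fun f => f.left.appTop) key
  simp only [Over.comp_left, Scheme.Hom.comp_appTop] at h'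
  exact ConcreteCategory.congr_hom h' z

/-- The coaction at a point of an affine test scheme. -/
def orb {C : Type u} [CommRing C] [Algebra k C] (x : VecGrp.pt k C ⟶ X) : Γ(X.left, ⊤) →ₐ[k] Γ(G.left, ⊤) ⊗[k] C :=
  val (prodPt G C ≫ orbMap a x)

omit [MonObj M] [IsAffine M.left] in
theorem orb_natural {C C' : Type u} [CommRing C] [Algebra k C] [CommRing C'] [Algebra k C'] (χ : C →ₐ[k] C')
    (x : VecGrp.pt k C ⟶ X) :
    orb a (VecGrp.ptMap χ ≫ x) = (Algebra.TensorProduct.map (AlgHom.id k _) χ).comp (orb a x) := by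
  rw [orb, orb, ← val_ptMap, ← Category.assoc (VecGrp.ptMap _), prodPt_right, orbMap, orbMap,
    MonoidalCategory.whiskerLeft_comp]
  simp only [Category.assoc]

omit [MonObj M] [GrpObj G] [IsMonHom i] [IsAffine X.left] in
include i in
theorem appAlg_injective : Function.Injective (appAlg i) := fun x y h => i.left.app_injective ⊤ h

theorem extends_iff {C : Type u} [CommRing C] [Algebra k C] (x : VecGrp.pt k C ⟶ X) :
    (∃ φ : M ⊗ VecGrp.pt k C ⟶ X, (i ▷ _) ≫ φ = orbMap a x) ↔
      ∀ b, orb a x b ∈ (Algebra.TensorProduct.map (appAlg i) (AlgHom.id k C)).range := by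
  constructor
  · rintro ⟨φ, hφ⟩ b
    refine ⟨val (prodPt M C ≫ φ) b, ?_⟩
    show ((Algebra.TensorProduct.map (appAlg i) (AlgHom.id k C)).comp (val (prodPt M C ≫ φ))) b = _
    rw [← val_ptMap, ← Category.assoc, prodPt_left, Category.assoc, hφ]
    rfl
  · intro h
    have hinj : Function.Injective (Algebra.TensorProduct.map (appAlg i) (AlgHom.id k C)) :=
      Module.Flat.rTensor_preserves_injective_linearMap (M := C) (appAlg i).toLinearMap (appAlg_injective i)
    let ψ : Γ(X.left, ⊤) →ₐ[k] Γ(M.left, ⊤) ⊗[k] C :=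
      (AlgEquiv.ofInjective _ hinj).symm.toAlgHom.comp ((orb a x).codRestrict _ h)
    have hψ : (Algebra.TensorProduct.map (appAlg i) (AlgHom.id k C)).comp ψ = orb a x := AlgHom.ext fun b =>
      congrArg Subtype.val ((AlgEquiv.ofInjective _ hinj).apply_symm_apply ⟨orb a x b, h b⟩)
    refine ⟨inv (prodPt M C) ≫ VecGrp.ptMap ψ ≫ uPt X, (cancel_epi (prodPt G C)).1 ?_⟩
    rw [← Category.assoc, ← prodPt_left, Category.assoc, IsIso.hom_inv_id_assoc, ← Category.assoc, ptMap_comp, hψ,
      orb, ptMap_val]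

/-- The obstruction in the cokernel. -/
abbrev Coker : Type u := Γ(G.left, ⊤) ⧸ LinearMap.range (appAlg i).toLinearMap

/-- The ideal of coefficients. -/
def coefIdeal : Ideal Γ(X.left, ⊤) :=
  Ideal.span (Set.range fun p : Γ(X.left, ⊤) × Module.Free.ChooseBasisIndex k (Coker i) =>
    TensorProduct.equivFinsuppOfBasisLeft (Module.Free.chooseBasis k (Coker i))
      ((LinearMap.range (appAlg i).toLinearMap).mkQ.rTensor _ (orb a (uPt X) p.1)) p.2)

theorem extends_iff_le {C : Type u} [CommRing C] [Algebra k C] (x : VecGrp.pt k C ⟶ X) :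
    (∃ φ : M ⊗ VecGrp.pt k C ⟶ X, (i ▷ _) ≫ φ = orbMap a x) ↔ coefIdeal i a ≤ RingHom.ker (val x) := by
  rw [extends_iff, coefIdeal, Ideal.span_le, Set.range_subset_iff, Prod.forall]
  refine forall_congr' fun b => ?_
  have hx : orb a x b = Algebra.TensorProduct.map (AlgHom.id k _) (val x) (orb a (uPt X) b) := by
    rw [← AlgHom.comp_apply, ← orb_natural, ptMap_val]
  have hex := rTensor_exact C (LinearMap.exact_map_mkQ_range (appAlg i).toLinearMap)
    (Submodule.mkQ_surjective (LinearMap.range (appAlg i).toLinearMap))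
  have hmem : orb a x b ∈ (Algebra.TensorProduct.map (appAlg i) (AlgHom.id k C)).range ↔
      (LinearMap.range (appAlg i).toLinearMap).mkQ.rTensor C (orb a x b) = 0 := (hex _).symm
  have key : ∀ (z : Γ(G.left, ⊤) ⊗[k] Γ(X.left, ⊤)) (j : Module.Free.ChooseBasisIndex k (Coker i)),
      TensorProduct.equivFinsuppOfBasisLeft (Module.Free.chooseBasis k (Coker i))
        ((LinearMap.range (appAlg i).toLinearMap).mkQ.rTensor C (Algebra.TensorProduct.map (AlgHom.id k _) (val x) z)) j =
      val x (TensorProduct.equivFinsuppOfBasisLeft (Module.Free.chooseBasis k (Coker i))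
        ((LinearMap.range (appAlg i).toLinearMap).mkQ.rTensor _ z) j) := by
    intro z j
    induction z using TensorProduct.induction_on with
    | zero => simp
    | tmul g b => simp [TensorProduct.equivFinsuppOfBasisLeft_apply_tmul_apply]
    | add z z' h h' => simp only [map_add, Finsupp.add_apply, h, h']
  rw [hmem, hx, ← LinearEquiv.map_eq_zero_iff (TensorProduct.equivFinsuppOfBasisLeft (Module.Free.chooseBasis k (Coker i))),
    Finsupp.ext_iff]
  refine forall_congr' fun j => ?_
  rw [key]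
  exact RingHom.mem_ker.symm

/-- The representing scheme. -/
abbrev Zof : Over (Spec (CommRingCat.of k)) := VecGrp.pt k (Γ(X.left, ⊤) ⧸ coefIdeal i a)

/-- Its inclusion. -/
def jof : Zof i a ⟶ X := VecGrp.ptMap (Ideal.Quotient.mkₐ k (coefIdeal i a)) ≫ uPt X

instance : IsClosedImmersion (jof i a).left := by
  haveI : IsClosedImmersion (VecGrp.ptMap (Ideal.Quotient.mkₐ k (coefIdeal i a))).left := by
    rw [VecGrp.ptMap_left]
    exact IsClosedImmersion.spec_of_surjective _ Ideal.Quotient.mk_surjective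
  show IsClosedImmersion ((VecGrp.ptMap (Ideal.Quotient.mkₐ k (coefIdeal i a))).left ≫ (uPt X).left)
  haveI : IsIso (uPt X).left := inferInstanceAs (IsIso X.left.isoSpec.inv)
  infer_instance

theorem exists_factor_pt {C : Type u} [CommRing C] [Algebra k C] (φ : (Dpsh i a).obj (op (VecGrp.pt k C))) :
    ∃ z, z ≫ jof i a = lift (toUnit (VecGrp.pt k C) ≫ η[M]) (𝟙 _) ≫ φ.1 := by
  have h := (extends_iff_le i a (lift (toUnit (VecGrp.pt k C) ≫ η[M]) (𝟙 _) ≫ φ.1)).1 ⟨φ.1, restrict_eq_orbMap i a φ⟩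
  refine ⟨VecGrp.ptMap (Ideal.Quotient.liftₐ (coefIdeal i a) _ fun b hb => h hb), ?_⟩
  rw [jof, ← Category.assoc, ptMap_comp, Ideal.Quotient.liftₐ_comp, ptMap_val]

theorem exists_factor {T : Over (Spec (CommRingCat.of k))} (φ : (Dpsh i a).obj (op T)) :
    ∃ z, z ≫ jof i a = lift (toUnit T ≫ η[M]) (𝟙 T) ≫ φ.1 := by
  set x := lift (toUnit T ≫ η[M]) (𝟙 T) ≫ φ.1
  let 𝒱 := T.left.affineOpenCover
  let 𝒰 := 𝒱.openCover
  have hloc : ∀ t : 𝒱.I₀, ∃ z : Spec (𝒱.X t) ⟶ (Zof i a).left, z ≫ (jof i a).left = 𝒱.f t ≫ x.left := by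
    intro t
    letI : Algebra k (𝒱.X t) := (Spec.preimage (𝒱.f t ≫ T.hom)).hom.toAlgebra
    let f : VecGrp.pt k (𝒱.X t) ⟶ T := Over.homMk (𝒱.f t) (by
      show 𝒱.f t ≫ T.hom = Spec.map _
      rw [RingHom.algebraMap_toAlgebra, CommRingCat.ofHom_hom, Spec.map_preimage])
    obtain ⟨z, hz⟩ := exists_factor_pt i a ((Dpsh i a).map f.op φ)
    refine ⟨z.left, ?_⟩
    have : z ≫ jof i a = f ≫ x := by
      rw [hz]
      show lift _ _ ≫ (M ◁ f) ≫ φ.1 = _
      rw [lift_whiskerLeft_assoc, Category.id_comp, comp_lift_assoc, Category.comp_id, comp_toUnit_assoc]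
    exact congrArg CommaMorphism.left this
  choose z hz using hloc
  have hc : ∀ s t, pullback.fst (𝒰.f s) (𝒰.f t) ≫ z s = pullback.snd _ _ ≫ z t := fun s t => by
    refine (cancel_mono (jof i a).left).1 ?_
    refine (Category.assoc _ _ _).trans (Eq.trans ?_ (Category.assoc _ _ _).symm)
    exact ((congrArg (pullback.fst _ _ ≫ ·) (hz s)).trans (pullback.condition_assoc _)).trans
      (congrArg (pullback.snd _ _ ≫ ·) (hz t)).symm
  have hg : 𝒰.glueMorphisms z hc ≫ (jof i a).left = x.left := 𝒰.hom_ext _ _ fun t => by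
    rw [← Category.assoc, Scheme.Cover.ι_glueMorphisms]
    exact hz t
  refine ⟨Over.homMk (𝒰.glueMorphisms z hc) ?_, Over.OverMorphism.ext hg⟩
  rw [← Over.w (jof i a), ← Category.assoc, hg]
  exact Over.w x

/-- Families are determined by their values at the unit. -/
theorem ext_unit [QuasiCompact i.left] {T : Over (Spec (CommRingCat.of k))} (φ ψ : (Dpsh i a).obj (op T))
    (h : lift (toUnit T ≫ η[M]) (𝟙 T) ≫ φ.1 = lift (toUnit T ≫ η[M]) (𝟙 T) ≫ ψ.1) : φ = ψ :=
  Subtype.ext (cancel_whiskerRight i T (by rw [restrict_eq_orbMap, restrict_eq_orbMap, h]))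

theorem representable :
    ∃ (Z : Over (Spec (CommRingCat.of k))) (j : Z ⟶ X) (e : (Dpsh i a).RepresentableBy Z),
      IsClosedImmersion j.left ∧ ∀ (T : Over (Spec (CommRingCat.of k))) (z : T ⟶ Z),
        (Magnet.MonAct.eqvHom.evalAt ((Magnet.MonAct.regular M).restrict i) (Magnet.MonAct.ofAction a) η[M]).app
          (op T) (e.homEquiv z) = z ≫ j := by
  haveI : Mono (jof i a).left := inferInstance
  haveI : Mono (jof i a) := (Over.forget _).mono_of_mono_map (show Mono (jof i a).left from inferInstance)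
  obtain ⟨φ, hφ⟩ := (extends_iff_le i a (jof i a)).2 (fun b hb => by
    rw [RingHom.mem_ker, jof, val_ptMap, InvRing21.val_uPt, AlgHom.comp_id, Ideal.Quotient.mkₐ_eq_mk,
      Ideal.Quotient.eq_zero_iff_mem]
    exact hb)
  let φZ : (Dpsh i a).obj (op (Zof i a)) := ⟨φ, isEquivariant_of_extends i a _ hφ⟩
  have hz : lift (toUnit _ ≫ η[M]) (𝟙 _) ≫ φZ.1 = jof i a := by
    have h := (restrict_eq_orbMap i a φZ).symm.trans hφ
    have h2 := congrArg (fun m => lift (1 : Zof i a ⟶ G) (𝟙 _) ≫ m) h
    simp only [orbMap, lift_whiskerLeft_assoc, Category.id_comp] at h2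
    have h1 : ∀ y : Zof i a ⟶ X, lift (1 : Zof i a ⟶ G) y ≫ a.act = y := fun y =>
      (Magnet.MonAct.ofAction a).lift_one_act y
    rwa [h1, h1] at h2
  have hev : ∀ (T : Over (Spec (CommRingCat.of k))) (z : T ⟶ Zof i a),
      lift (toUnit T ≫ η[M]) (𝟙 T) ≫ ((Dpsh i a).map z.op φZ).1 = z ≫ jof i a := by
    intro T z
    show lift _ _ ≫ (M ◁ z) ≫ φZ.1 = _
    rw [lift_whiskerLeft_assoc, Category.id_comp, ← hz, comp_lift_assoc, Category.comp_id, comp_toUnit_assoc]
  refine ⟨Zof i a, jof i a,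
    { homEquiv := fun {T} =>
        { toFun := fun z => (Dpsh i a).map z.op φZ
          invFun := fun ψ => (exists_factor i a ψ).choose
          left_inv := fun z => by
            rw [← cancel_mono (jof i a), (exists_factor i a _).choose_spec, hev]
          right_inv := fun ψ => ext_unit i a _ _ (by rw [hev, (exists_factor i a ψ).choose_spec]) }
      homEquiv_comp := fun f g => by
        show (Dpsh i a).map (f ≫ g).op φZ = (Dpsh i a).map f.op ((Dpsh i a).map g.op φZ)
        rw [op_comp, Functor.map_comp]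
        rfl }, inferInstance, fun T z => hev T z⟩

end Groth.Agent.UnitsMag16
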