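import Groth.Agent.Lib.UnitsMag16.Affine
import Groth.Agent.Lib.UnitsMag16.Open
import Groth.Agent.Lib.OverRep16.Glue
import Groth.Agent.S18294

/-! Gluing the magnets of stable affine opens. -/

set_option autoImplicit false
set_option linter.style.haveILetI false
set_option backward.isDefEq.respectTransparency.types false
universe u

open CategoryTheory CategoryTheory.Limits MonoidalCategory CartesianMonoidalCategory MonObj AlgebraicGeometry Opposite

noncomputable section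

namespace Groth.Agent.UnitsMag16

variable {k : Type u} [Field k] {M G X : Over (Spec (CommRingCat.of k))} [MonObj M] [GrpObj G]
  (i : G ⟶ M) [IsMonHom i] (aX : AlgGrp.Action G X)

/-- An open subscheme as an object over the base. -/
abbrev openObj (U : X.left.Opens) : Over (Spec (CommRingCat.of k)) := Over.mk (U.ι ≫ X.hom)

/-- Its inclusion. -/
abbrev openIncl (U : X.left.Opens) : openObj U ⟶ X := Over.homMk U.ι rfl

/-- A stable open carries an action. -/
theorem exists_restrict (U : X.left.Opens) (hU : (snd G X).left ⁻¹ᵁ U ≤ aX.act.left ⁻¹ᵁ U) :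
    ∃ aU : AlgGrp.Action G (openObj U),
      Magnet.MonAct.IsEquivariant (Magnet.MonAct.ofAction aU) (Magnet.MonAct.ofAction aX) (openIncl U) := by
  have hr : Set.range ((G ◁ openIncl U) ≫ aX.act).left ⊆ Set.range U.ι := by
    rw [Scheme.Opens.range_ι]
    rintro _ ⟨p, rfl⟩
    have h : (G ◁ openIncl U).left p ∈ (snd G X).left ⁻¹ᵁ U := by
      show (snd G X).left ((G ◁ openIncl U).left p) ∈ U
      rw [← Scheme.Hom.comp_apply, ← Over.comp_left, whiskerLeft_snd, Over.comp_left, Scheme.Hom.comp_apply]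
      exact ((snd G (openObj U)).left p).2
    exact hU h
  let act : G ⊗ openObj U ⟶ openObj U := Over.homMk (IsOpenImmersion.lift U.ι _ hr) (by
    show IsOpenImmersion.lift U.ι _ hr ≫ U.ι ≫ X.hom = _
    rw [← Category.assoc, IsOpenImmersion.lift_fac]
    exact Over.w _)
  have hact : act ≫ openIncl U = (G ◁ openIncl U) ≫ aX.act :=
    Over.OverMorphism.ext (IsOpenImmersion.lift_fac _ _ _)
  haveI : Mono (openIncl U) := (Over.forget _).mono_of_mono_map (show Mono U.ι from inferInstance)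
  let c : Magnet.MonAct G (openObj U) := Magnet.MonAct.mk' act
    (fun T x => by
      rw [← cancel_mono (openIncl U), Category.assoc, hact, lift_whiskerLeft_assoc]
      exact (Magnet.MonAct.ofAction aX).lift_one_act _)
    (fun T g h x => by
      simp only [← cancel_mono (openIncl U), Category.assoc, hact, lift_whiskerLeft_assoc]
      exact (Magnet.MonAct.ofAction aX).lift_mul_act _ _ _)
  exact ⟨c.toAction, hact⟩

variable (o : 𝟙_ (Over (Spec (CommRingCat.of k))) ⟶ M)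
  (ho : ∀ (T : Over (Spec (CommRingCat.of k))) (m : T ⟶ M),
    m * (toUnit T ≫ o) = toUnit T ≫ o ∧ (toUnit T ≫ o) * m = toUnit T ≫ o)

include ho in
theorem fixed_zero {T : Over (Spec (CommRingCat.of k))} (φ : (Dpsh i aX).obj (op T))
    (T' : Over (Spec (CommRingCat.of k))) (t : T' ⟶ T) (g : T' ⟶ G) :
    lift g (t ≫ lift (toUnit T ≫ o) (𝟙 T) ≫ φ.1) ≫ (Magnet.MonAct.ofAction aX).act =
      t ≫ lift (toUnit T ≫ o) (𝟙 T) ≫ φ.1 := by
  have h := (Magnet.MonAct.mem_eqvHom_iff φ.1).1 φ.2 T' g (toUnit T' ≫ o) t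
  rw [Magnet.MonAct.lift_restrict_act, Magnet.MonAct.lift_regular_act, (ho T' (g ≫ i)).1] at h
  rw [comp_lift_assoc, Category.comp_id, comp_toUnit_assoc]
  exact h.symm

variable [IsAffine M.left] [IsAffine G.left] [IsOpenImmersion i.left] [IsSchemeTheoreticallyDominant i.left]
  (hM : ∀ (T : Over (Spec (CommRingCat.of k))) (K : Type u) [Field K] (eT : T.left ≅ Spec (CommRingCat.of K))
    (W : (M ⊗ T).left.Opens),
    (CartesianMonoidalCategory.snd G (M ⊗ T)).left ⁻¹ᵁ W ≤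
        ((((Magnet.MonAct.regular M).restrict i).prod (Magnet.MonAct.trivial G T)).act).left ⁻¹ᵁ W →
    (CartesianMonoidalCategory.lift (toUnit T ≫ o) (𝟙 T)).left ⁻¹ᵁ W = ⊤ → W = ⊤)

include hM in
theorem exists_chart (U : X.left.Opens) (hUa : IsAffineOpen U)
    (hU : (snd G X).left ⁻¹ᵁ U ≤ aX.act.left ⁻¹ᵁ U) :
    ∃ C : OverRep16.Chart (Dpsh i aX), ∀ (T : Over (Spec (CommRingCat.of k))) (φ : (Dpsh i aX).obj (op T)),
      (∀ y, (lift (toUnit T ≫ o) (𝟙 T) ≫ φ.1).left y ∈ U) →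
        ∃ h : T ⟶ C.U, (Dpsh i aX).map h.op C.Z = φ := by
  obtain ⟨aU, hj⟩ := exists_restrict aX U hU
  haveI : IsAffine (openObj U).left := hUa
  haveI : IsOpenImmersion (openIncl U).left := inferInstanceAs (IsOpenImmersion U.ι)
  haveI : Mono (openIncl U) := (Over.forget _).mono_of_mono_map (show Mono U.ι from inferInstance)
  obtain ⟨Z, j, e, -, -⟩ := representable i aU
  let P := Magnet.MonAct.eqvHom.postcomp ((Magnet.MonAct.regular M).restrict i) (openIncl U) hj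
  let ξ : (Dpsh i aX).obj (op Z) := P.app (op Z) (e.homEquiv (𝟙 Z))
  have hξ : ∀ {T : Over (Spec (CommRingCat.of k))} (h : T ⟶ Z),
      (Dpsh i aX).map h.op ξ = P.app (op T) (e.homEquiv h) := fun {T} h => by
    rw [e.homEquiv_eq h]
    exact (NatTrans.naturality_apply P h.op _).symm
  have hiff : ∀ (T : Over (Spec (CommRingCat.of k))) (φ : (Dpsh i aX).obj (op T)),
      (∀ y, (lift (toUnit T ≫ o) (𝟙 T) ≫ φ.1).left y ∈ U) ↔ ∃ h : T ⟶ Z, (Dpsh i aX).map h.op ξ = φ := by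
    intro T φ
    constructor
    · intro hy
      have hr : Set.range (lift (toUnit T ≫ o) (𝟙 T) ≫ φ.1).left ⊆ Set.range U.ι := by
        rw [Scheme.Opens.range_ι]
        rintro _ ⟨y, rfl⟩
        exact hy y
      let u : T ⟶ openObj U := Over.homMk (IsOpenImmersion.lift U.ι _ hr) (by
        show IsOpenImmersion.lift U.ι _ hr ≫ U.ι ≫ X.hom = _
        rw [← Category.assoc, IsOpenImmersion.lift_fac]
        exact Over.w _)
      have hu : lift (toUnit T ≫ o) (𝟙 T) ≫ φ.1 = u ≫ openIncl U :=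
        Over.OverMorphism.ext (IsOpenImmersion.lift_fac _ _ _).symm
      obtain ⟨ψ, hψ⟩ := exists_lift i aX aU (openIncl U) o hM T φ u hu hj
      refine ⟨e.homEquiv.symm ψ, ?_⟩
      rw [hξ, Equiv.apply_symm_apply]
      exact Subtype.ext hψ
    · rintro ⟨h, rfl⟩ y
      rw [hξ]
      show (lift (toUnit T ≫ o) (𝟙 T) ≫ (e.homEquiv h).1 ≫ openIncl U).left y ∈ U
      rw [← Category.assoc, Over.comp_left, Scheme.Hom.comp_apply]
      exact ((lift (toUnit T ≫ o) (𝟙 T) ≫ (e.homEquiv h).1).left y).2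
  refine ⟨⟨Z, ξ, fun {T} h h' hh => ?_, fun T φ => ⟨(lift (toUnit T ≫ o) (𝟙 T) ≫ φ.1).left ⁻¹ᵁ U,
    fun {T'} g => ?_⟩⟩, fun T φ hy => (hiff T φ).1 hy⟩
  · rw [hξ, hξ] at hh
    refine e.homEquiv.injective (Subtype.ext ?_)
    exact (cancel_mono (openIncl U)).1 (congrArg Subtype.val hh)
  · rw [← hiff]
    refine forall_congr' fun y => ?_
    show (lift (toUnit T ≫ o) (𝟙 T) ≫ φ.1).left (g.left y) ∈ U ↔
      (lift (toUnit T' ≫ o) (𝟙 T') ≫ (M ◁ g) ≫ φ.1).left y ∈ U
    rw [lift_whiskerLeft_assoc, Category.id_comp,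
      show lift (toUnit T' ≫ o) g = g ≫ lift (toUnit T ≫ o) (𝟙 T) by
        rw [comp_lift, Category.comp_id, comp_toUnit_assoc],
      Category.assoc]
    simp only [Over.comp_left, Scheme.Hom.comp_apply]

include ho hM in
theorem representable_glue
    (hcov : ∀ (T : Over (Spec (CommRingCat.of k))) (x : (Magnet.MonAct.fixedPsh (Magnet.MonAct.ofAction aX)).obj (op T)),
      ⨆ (U : X.left.Opens) (_ : IsAffineOpen U ∧ (CartesianMonoidalCategory.snd G X).left ⁻¹ᵁ U ≤ aX.act.left ⁻¹ᵁ U),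
        x.1.left ⁻¹ᵁ U = ⊤) :
    ∃ Z : Over (Spec (CommRingCat.of k)), Nonempty ((Dpsh i aX).RepresentableBy Z) := by
  let κ := {U : X.left.Opens // IsAffineOpen U ∧ (snd G X).left ⁻¹ᵁ U ≤ aX.act.left ⁻¹ᵁ U}
  choose C hC using fun U : κ => exists_chart i aX o hM U.1 U.2.1 U.2.2
  refine OverRep16.representable_of_charts
    (OverRep16.isZarSheaf_of_fppf _ (Groth.Agent.S18294.result _ G M X _ _)) C fun T φ t => ?_
  have ht : t ∈ ⨆ (U : X.left.Opens) (_ : IsAffineOpen U ∧ (snd G X).left ⁻¹ᵁ U ≤ aX.act.left ⁻¹ᵁ U),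
      (lift (toUnit T ≫ o) (𝟙 T) ≫ φ.1).left ⁻¹ᵁ U := by
    rw [hcov T ⟨lift (toUnit T ≫ o) (𝟙 T) ≫ φ.1, fixed_zero i aX o ho φ⟩]
    exact TopologicalSpace.Opens.mem_top t
  simp only [TopologicalSpace.Opens.mem_iSup] at ht
  obtain ⟨U, hU, hmem⟩ := ht
  let O := (lift (toUnit T ≫ o) (𝟙 T) ≫ φ.1).left ⁻¹ᵁ U
  refine ⟨⟨U, hU⟩, O, hmem, hC ⟨U, hU⟩ _ _ fun y => ?_⟩
  show (lift (toUnit _ ≫ o) (𝟙 _) ≫ (M ◁ (Over.homMk O.ι rfl : Over.mk (O.ι ≫ T.hom) ⟶ T)) ≫ φ.1).left y ∈ U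
  rw [lift_whiskerLeft_assoc, Category.id_comp,
    show lift (toUnit _ ≫ o) (Over.homMk O.ι rfl : Over.mk (O.ι ≫ T.hom) ⟶ T) =
        (Over.homMk O.ι rfl : Over.mk (O.ι ≫ T.hom) ⟶ T) ≫ lift (toUnit T ≫ o) (𝟙 T) by
      rw [comp_lift, Category.comp_id, comp_toUnit_assoc],
    Category.assoc]
  simp only [Over.comp_left, Scheme.Hom.comp_apply]
  exact y.2

end Groth.Agent.UnitsMag16
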